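/-
Kummer algebras along relative normal crossings coordinates are formally smooth over the base.
-/
import Groth.Prelude.Def_SGA1t
import Mathlib

set_option autoImplicit false
set_option linter.style.haveILetI false
set_option backward.isDefEq.respectTransparency false
universe u v w

open CategoryTheory CategoryTheory.Limits AlgebraicGeometry

namespace Groth.Agent.KumSmooth

/-- Adjoining roots of coordinates preserves formal smoothness. -/
theorem formallySmooth_kummer (R : Type u) [CommRing R] {d : Type u} (A : Type u) [CommRing A] [Algebra R A]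
    [Algebra (MvPolynomial d R) A] [IsScalarTower R (MvPolynomial d R) A]
    [Algebra.FormallySmooth (MvPolynomial d R) A] {ι : Type} (e : ι → d) (he : Function.Injective e)
    (a : ι → A) (ha : ∀ i, a i = algebraMap (MvPolynomial d R) A (MvPolynomial.X (e i))) (n : ι → ℕ) :
    Algebra.FormallySmooth R (SGA1t.kummer A a n) := by
  classical
  refine .of_comp_surjective fun C _ _ J hJ f => ?_
  let q : MvPolynomial ι A →+* SGA1t.kummer A a n := Ideal.Quotient.mk _
  choose τ hτ using fun i => Ideal.Quotient.mk_surjective (f (q (MvPolynomial.X i)))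
  choose s hs using fun j => Ideal.Quotient.mk_surjective
    (f (q (MvPolynomial.C (algebraMap (MvPolynomial d R) A (MvPolynomial.X j)))))
  let t : d → C := fun j => if h : ∃ i, e i = j then τ h.choose ^ n h.choose else s j
  have hrel : ∀ i, q (MvPolynomial.X i) ^ n i = q (MvPolynomial.C (a i)) := fun i => by
    rw [← map_pow]
    exact Ideal.Quotient.eq.2 (Ideal.subset_span ⟨i, rfl⟩)
  have ht : ∀ j, Ideal.Quotient.mk J (t j) =
      f (q (MvPolynomial.C (algebraMap (MvPolynomial d R) A (MvPolynomial.X j)))) := by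
    intro j
    by_cases h : ∃ i, e i = j
    · simp only [t, dif_pos h]
      conv_rhs => rw [← h.choose_spec, ← ha, ← hrel, map_pow, ← hτ, ← map_pow]
    · simp only [t, dif_neg h]
      exact hs j
  let fA : A →ₐ[R] C ⧸ J := f.comp (IsScalarTower.toAlgHom R A (SGA1t.kummer A a n))
  letI : Algebra (MvPolynomial d R) C := (MvPolynomial.aeval (R := R) t).toRingHom.toAlgebra
  have hcomm : ∀ p : MvPolynomial d R,
      fA (algebraMap (MvPolynomial d R) A p) = Ideal.Quotient.mk J (MvPolynomial.aeval t p) := by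
    intro p
    refine DFunLike.congr_fun (MvPolynomial.algHom_ext (A := C ⧸ J)
      (f := fA.comp (IsScalarTower.toAlgHom R (MvPolynomial d R) A))
      (g := (Ideal.Quotient.mkₐ R J).comp (MvPolynomial.aeval t)) fun j => ?_) p
    show fA (algebraMap (MvPolynomial d R) A (MvPolynomial.X j)) = Ideal.Quotient.mk J (MvPolynomial.aeval t (MvPolynomial.X j))
    rw [MvPolynomial.aeval_X, ht]
    rfl
  let fA' : A →ₐ[MvPolynomial d R] C ⧸ J := { fA.toRingHom with commutes' := fun p => (hcomm p).trans rfl }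
  obtain ⟨g, hg⟩ := Algebra.FormallySmooth.comp_surjective (MvPolynomial d R) A (B := C) J hJ fA'
  letI : Algebra A C := g.toRingHom.toAlgebra
  let G : MvPolynomial ι A →+* C := (MvPolynomial.aeval (R := A) τ).toRingHom
  have hG : ∀ i, G ((MvPolynomial.X i : MvPolynomial ι A) ^ n i - MvPolynomial.C (a i)) = 0 := by
    intro i
    show MvPolynomial.aeval τ _ = 0
    rw [map_sub, map_pow, MvPolynomial.aeval_X, MvPolynomial.aeval_C, ha, sub_eq_zero]
    show τ i ^ n i = g (algebraMap (MvPolynomial d R) A (MvPolynomial.X (e i)))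
    rw [AlgHom.commutes]
    show _ = MvPolynomial.aeval t (MvPolynomial.X (e i))
    rw [MvPolynomial.aeval_X]
    have h : ∃ i', e i' = e i := ⟨i, rfl⟩
    simp only [t, dif_pos h]
    rw [he h.choose_spec]
  let G' : SGA1t.kummer A a n →+* C := Ideal.Quotient.lift _ G fun p hp => by
    induction hp using Submodule.span_induction with
    | mem x hx => obtain ⟨i, rfl⟩ := hx; exact hG i
    | zero => exact map_zero G
    | add x y _ _ hx hy => rw [map_add, hx, hy, add_zero]
    | smul c x _ hx => rw [smul_eq_mul, map_mul, hx, mul_zero]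
  refine ⟨{ G' with commutes' := fun r => ?_ }, ?_⟩
  · show G' (algebraMap R (SGA1t.kummer A a n) r) = _
    rw [IsScalarTower.algebraMap_apply R A (SGA1t.kummer A a n)]
    show G (MvPolynomial.C (algebraMap R A r)) = _
    show MvPolynomial.aeval τ (MvPolynomial.C (algebraMap R A r)) = _
    rw [MvPolynomial.aeval_C]
    show g (algebraMap R A r) = _
    rw [IsScalarTower.algebraMap_apply R (MvPolynomial d R) A, AlgHom.commutes]
    show MvPolynomial.aeval t (algebraMap R (MvPolynomial d R) r) = _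
    exact AlgHom.commutes _ r
  · refine AlgHom.coe_ringHom_injective (Ideal.Quotient.ringHom_ext (MvPolynomial.ringHom_ext (fun x => ?_) fun i => ?_))
    · show Ideal.Quotient.mk J (MvPolynomial.aeval τ (MvPolynomial.C x)) = f (q (MvPolynomial.C x))
      rw [MvPolynomial.aeval_C]
      exact DFunLike.congr_fun hg x
    · show Ideal.Quotient.mk J (MvPolynomial.aeval τ (MvPolynomial.X i)) = f (q (MvPolynomial.X i))
      rw [MvPolynomial.aeval_X]
      exact hτ i

/-- The stalk maps of a formally smooth affine morphism followed by an open immersion. -/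
theorem stalkMap_formallySmooth {R K : CommRingCat.{u}} {S : Scheme.{u}} (χ : R ⟶ K) (hχ : χ.hom.FormallySmooth)
    (j : Spec R ⟶ S) [IsOpenImmersion j] (g : Spec K ⟶ S) (hg : g = Spec.map χ ≫ j) (q : Spec K) :
    (g.stalkMap q).hom.FormallySmooth := by
  subst hg
  have hRI := RingHom.FormallySmooth.respectsIso
  rw [Scheme.Hom.stalkMap_comp, CommRingCat.hom_comp]
  have hiso : IsIso (j.stalkMap ((Spec.map χ).base q)) := inferInstance
  refine hRI.2 ((Spec.map χ).stalkMap q).hom (asIso (j.stalkMap ((Spec.map χ).base q))).commRingCatIsoToRingEquiv ?_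
  haveI := RingHom.toMorphismProperty_respectsIso_iff.1 hRI
  refine ((RingHom.toMorphismProperty @RingHom.FormallySmooth).arrow_mk_iso_iff
    (Scheme.arrowStalkMapSpecIso χ q)).2 ?_
  show (Localization.localRingHom _ _ χ.hom rfl).FormallySmooth
  letI : Algebra R K := χ.hom.toAlgebra
  let p := Ideal.comap χ.hom (q : PrimeSpectrum K).asIdeal
  let L := Localization.AtPrime (q : PrimeSpectrum K).asIdeal
  let lh : Localization.AtPrime p →+* L := Localization.localRingHom p _ χ.hom rfl
  letI : Algebra (Localization.AtPrime p) L := lh.toAlgebra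
  haveI : IsScalarTower R (Localization.AtPrime p) L := IsScalarTower.of_algebraMap_eq fun r => by
    show algebraMap K L (χ.hom r) = lh (algebraMap R (Localization.AtPrime p) r)
    exact (Localization.localRingHom_to_map p _ χ.hom rfl r).symm
  haveI : Algebra.FormallySmooth R K := hχ
  haveI : Algebra.FormallySmooth K L := Algebra.FormallySmooth.of_isLocalization (q : PrimeSpectrum K).asIdeal.primeCompl
  haveI : Algebra.FormallySmooth R L := Algebra.FormallySmooth.comp R K L
  exact (RingHom.formallySmooth_algebraMap (R := Localization.AtPrime p) (S := L)).2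
    (Algebra.FormallySmooth.localization_base p.primeCompl)

/-- An affine chart of an étale map to affine space. -/
theorem exists_chart {X S : Scheme.{u}} (f : X ⟶ S) (W : X.Opens) {n : Type u} [Finite n] (v : n → Γ(W, ⊤))
    [Etale (AffineSpace.homOfVector (W.ι ≫ f) v)] (x : X) (hxW : x ∈ W) :
    ∃ (V : S.Opens) (_ : IsAffineOpen V) (U : X.Opens) (hU : IsAffineOpen U) (_ : x ∈ U) (hUW : U ≤ W)
      (hUV : U ≤ f ⁻¹ᵁ V),
      (MvPolynomial.eval₂Hom (f.appLE V U hUV).hom
        (fun j => (Scheme.ΓSpecIso Γ(X, U)).hom ((hU.isoSpec.inv ≫ X.homOfLE hUW).appTop (v j)))).Etale := by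
  obtain ⟨V, hV, hfx, -⟩ := exists_isAffineOpen_mem_and_subset (x := f.base x) (U := (⊤ : S.Opens)) trivial
  obtain ⟨U, hU, hxU, hUle⟩ := exists_isAffineOpen_mem_and_subset (x := x) (U := W ⊓ f ⁻¹ᵁ V) ⟨hxW, hfx⟩
  have hUW : U ≤ W := fun y hy => (hUle hy).1
  have hUV : U ≤ f ⁻¹ᵁ V := fun y hy => (hUle hy).2
  refine ⟨V, hV, U, hU, hxU, hUW, hUV, ?_⟩
  let ι' : Spec Γ(X, U) ⟶ W := hU.isoSpec.inv ≫ X.homOfLE hUW
  have hι' : ι' ≫ W.ι = hU.fromSpec := by
    rw [Category.assoc, Scheme.homOfLE_ι, IsAffineOpen.isoSpec_inv_ι]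
  let w : n → Γ(X, U) := fun j => (Scheme.ΓSpecIso Γ(X, U)).hom (ι'.appTop (v j))
  show (MvPolynomial.eval₂Hom (f.appLE V U hUV).hom w).Etale
  let ψ : CommRingCat.of (MvPolynomial n Γ(S, V)) ⟶ Γ(X, U) :=
    CommRingCat.ofHom (MvPolynomial.eval₂Hom (f.appLE V U hUV).hom w)
  let h₀ := Spec.map ψ ≫ (AffineSpace.SpecIso n Γ(S, V)).inv
  have key : h₀ ≫ AffineSpace.map n hV.fromSpec = ι' ≫ AffineSpace.homOfVector (W.ι ≫ f) v := by
    refine AffineSpace.hom_ext ?_ fun j => ?_
    · simp only [h₀, Category.assoc, AffineSpace.map_over, AffineSpace.homOfVector_over]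
      rw [← Category.assoc ι', hι', ← hV.SpecMap_appLE_fromSpec f hU hUV, AffineSpace.SpecIso_inv_over_assoc,
        ← Spec.map_comp_assoc]
      congr 2
      ext r
      exact MvPolynomial.eval₂Hom_C _ _ r
    · simp only [h₀, Scheme.Hom.comp_appTop, CommRingCat.comp_apply, AffineSpace.map_appTop_coord,
        AffineSpace.homOfVector_appTop_coord, AffineSpace.SpecIso_inv_appTop_coord]
      rw [← CommRingCat.comp_apply, ← Scheme.ΓSpecIso_inv_naturality, CommRingCat.comp_apply]
      show (Scheme.ΓSpecIso Γ(X, U)).inv (MvPolynomial.eval₂Hom (f.appLE V U hUV).hom w (MvPolynomial.X j)) = _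
      rw [MvPolynomial.eval₂Hom_X']
      exact Iso.hom_inv_id_apply (Scheme.ΓSpecIso Γ(X, U)) _
  haveI : IsOpenImmersion (AffineSpace.map n hV.fromSpec) :=
    MorphismProperty.of_isPullback (AffineSpace.isPullback_map (n := n) hV.fromSpec).flip inferInstance
  haveI : Etale (ι' ≫ AffineSpace.homOfVector (W.ι ≫ f) v) := by
    haveI : IsOpenImmersion ι' := inferInstanceAs (IsOpenImmersion (hU.isoSpec.inv ≫ X.homOfLE hUW))
    infer_instance
  haveI : Etale (h₀ ≫ AffineSpace.map n hV.fromSpec) := by rw [key]; infer_instance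
  haveI : Etale h₀ := Etale.of_comp h₀ (AffineSpace.map n hV.fromSpec)
  have : Etale (Spec.map ψ) := by
    rw [← MorphismProperty.cancel_right_of_respectsIso (P := @Etale) _ (AffineSpace.SpecIso n Γ(S, V)).inv]
    infer_instance
  exact (HasRingHomProperty.Spec_iff (P := @Etale)).1 this

theorem main {X S : Scheme.{u}} (f : X ⟶ S) {r : ℕ} (φ : Fin r → Γ(X, ⊤))
    (hD : SGA1t.IsRelSNC f φ) (x : X) (hx : Nonempty (SGA1t.vanishingAt φ x))
    (n : SGA1t.vanishingAt φ x → ℕ) :
    letI A := X.presheaf.stalk x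
    letI a : SGA1t.vanishingAt φ x → A := fun i => (X.presheaf.germ ⊤ x trivial).hom (φ i.1)
    letI π : Spec (CommRingCat.of (SGA1t.kummer A a n)) ⟶ Spec (CommRingCat.of A) :=
      Spec.map (CommRingCat.ofHom (algebraMap A (SGA1t.kummer A a n)))
    ∀ x' : Spec (CommRingCat.of (SGA1t.kummer A a n)),
      ((π ≫ X.fromSpecStalk x ≫ f).stalkMap x').hom.FormallySmooth := by
  intro x'
  let A : Type u := X.presheaf.stalk x
  let a : SGA1t.vanishingAt φ x → A := fun i => (X.presheaf.germ ⊤ x trivial).hom (φ i.1)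
  obtain ⟨W, hxW, d, v, e, he, hg, hve⟩ := hD x hx
  obtain ⟨V, hV, U, hU, hxU, hUW, hUV, hψ⟩ := exists_chart f W v x hxW
  let φ' : Γ(S, V) →+* Γ(X, U) := (f.appLE V U hUV).hom
  let gU : Γ(X, U) →+* A := (X.presheaf.germ U x hxU).hom
  let ψ : MvPolynomial (ULift.{u} (Fin d)) Γ(S, V) →+* Γ(X, U) := MvPolynomial.eval₂Hom φ'
    (fun j => (Scheme.ΓSpecIso Γ(X, U)).hom ((hU.isoSpec.inv ≫ X.homOfLE hUW).appTop (v j)))
  letI : Algebra Γ(X, U) A := gU.toAlgebra
  haveI : IsLocalization.AtPrime A (hU.primeIdealOf ⟨x, hxU⟩).asIdeal := hU.isLocalization_stalk ⟨x, hxU⟩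
  letI : Algebra (MvPolynomial (ULift.{u} (Fin d)) Γ(S, V)) Γ(X, U) := ψ.toAlgebra
  haveI : Algebra.Etale (MvPolynomial (ULift.{u} (Fin d)) Γ(S, V)) Γ(X, U) := hψ
  letI : Algebra (MvPolynomial (ULift.{u} (Fin d)) Γ(S, V)) A := (gU.comp ψ).toAlgebra
  haveI : IsScalarTower (MvPolynomial (ULift.{u} (Fin d)) Γ(S, V)) Γ(X, U) A := IsScalarTower.of_algebraMap_eq' rfl
  letI : Algebra Γ(S, V) A := (gU.comp φ').toAlgebra
  haveI : IsScalarTower Γ(S, V) (MvPolynomial (ULift.{u} (Fin d)) Γ(S, V)) A :=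
    IsScalarTower.of_algebraMap_eq fun s => by
      show gU (φ' s) = gU (ψ (MvPolynomial.C s))
      rw [MvPolynomial.eval₂Hom_C]
  haveI : Algebra.FormallySmooth Γ(X, U) A :=
    Algebra.FormallySmooth.of_isLocalization (hU.primeIdealOf ⟨x, hxU⟩).asIdeal.primeCompl
  haveI : Algebra.FormallySmooth (MvPolynomial (ULift.{u} (Fin d)) Γ(S, V)) A :=
    Algebra.FormallySmooth.comp _ Γ(X, U) A
  have ha : ∀ i, a i = algebraMap (MvPolynomial (ULift.{u} (Fin d)) Γ(S, V)) A (MvPolynomial.X (ULift.up (e i))) := by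
    intro i
    show (X.presheaf.germ ⊤ x trivial).hom (φ i.1) = gU (ψ (MvPolynomial.X (ULift.up (e i))))
    rw [MvPolynomial.eval₂Hom_X']
    have h1 : v (ULift.up (e i)) = W.ι.appTop (φ i.1) := by
      rw [hve i]
      simp [Scheme.Opens.topIso]
      rw [← CommRingCat.comp_apply, ← Functor.map_comp]
      rfl
    rw [h1]
    have h2 : (hU.isoSpec.inv ≫ X.homOfLE hUW) ≫ W.ι = hU.fromSpec := by
      rw [Category.assoc, Scheme.homOfLE_ι, IsAffineOpen.isoSpec_inv_ι]
    have h3 : (Scheme.ΓSpecIso Γ(X, U)).hom ((hU.isoSpec.inv ≫ X.homOfLE hUW).appTop (W.ι.appTop (φ i.1))) =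
        X.presheaf.map (homOfLE (le_top : U ≤ ⊤)).op (φ i.1) := by
      rw [show (hU.isoSpec.inv ≫ X.homOfLE hUW).appTop (W.ι.appTop (φ i.1)) = hU.fromSpec.appTop (φ i.1) from by
        rw [← h2, Scheme.Hom.comp_appTop _ W.ι]; rfl]
      show (hU.fromSpec.app ⊤ ≫ (Scheme.ΓSpecIso Γ(X, U)).hom) (φ i.1) = _
      rw [hU.fromSpec_app_of_le ⊤ le_top]
      simp
    rw [h3]
    exact (X.presheaf.germ_res_apply (homOfLE (le_top : U ≤ ⊤)) x hxU (φ i.1)).symm
  haveI hK : Algebra.FormallySmooth Γ(S, V) (SGA1t.kummer A a n) :=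
    formallySmooth_kummer Γ(S, V) A (fun i => ULift.up (e i)) (ULift.up_injective.comp he) a ha n
  refine stalkMap_formallySmooth (CommRingCat.ofHom (algebraMap Γ(S, V) (SGA1t.kummer A a n)))
    (RingHom.formallySmooth_algebraMap.2 hK) hV.fromSpec _ ?_ x'
  rw [← hU.fromSpecStalk_eq_fromSpecStalk hxU, IsAffineOpen.fromSpecStalk, Category.assoc,
    ← hV.SpecMap_appLE_fromSpec f hU hUV]
  simp only [← Spec.map_comp_assoc]
  congr 2

end Groth.Agent.KumSmooth
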